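import Mathlib.RingTheory.Filtration
import Mathlib.RingTheory.Ideal.Operations
import Mathlib.LinearAlgebra.Pi
import Mathlib.RingTheory.Finiteness.Basic
import Mathlib.Tactic.Ring

/-!
The graded ring of a quotient is unchanged by perturbing generators together with their syzygies.
-/

set_option autoImplicit false

universe u

namespace Groth.Agent.AlgzGrLib

variable {P : Type u} [CommRing P] (M : Ideal P)

theorem apply_mem_of_mem_smul_top {ι : Type u} (J : Ideal P) {a : ι → P}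
    (h : a ∈ (J • ⊤ : Submodule P (ι → P))) (i : ι) : a i ∈ J := by
  refine Submodule.smul_induction_on h (fun r hr n _ => ?_) fun x y hx hy => J.add_mem hx hy
  exact J.mul_mem_right _ hr

theorem mem_smul_top_of_apply_mem {ι : Type u} [Fintype ι] (J : Ideal P) {a : ι → P}
    (h : ∀ i, a i ∈ J) : a ∈ (J • ⊤ : Submodule P (ι → P)) := by
  classical
  rw [show a = ∑ i, a i • (Pi.single i 1 : ι → P) by
    ext j; simp [Finset.sum_apply, Pi.single_apply]]
  exact Submodule.sum_mem _ fun i _ => Submodule.smul_mem_smul (h i) trivial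

/-- Artin-Rees for the image of a linear map. -/
theorem exists_ar [IsNoetherianRing P] {ι : Type u} [Fintype ι] {W : Type u} [AddCommGroup W] [Module P W]
    [Module.Finite P W] (d : (ι → P) →ₗ[P] W) :
    ∃ c : ℕ, ∀ n, c ≤ n → ∀ x ∈ LinearMap.range d, x ∈ (M ^ n • ⊤ : Submodule P W) →
      ∃ a : ι → P, (∀ i, a i ∈ M ^ (n - c)) ∧ d a = x := by
  obtain ⟨c, hc⟩ := M.exists_pow_inf_eq_pow_smul (LinearMap.range d)
  refine ⟨c, fun n hn x hx hx' => ?_⟩
  have h : x ∈ M ^ (n - c) • LinearMap.range d :=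
    Submodule.smul_mono le_rfl inf_le_right ((hc n hn).le ⟨hx', hx⟩)
  rw [← Submodule.map_top, ← Submodule.map_smul''] at h
  obtain ⟨a, ha, rfl⟩ := h
  exact ⟨a, apply_mem_of_mem_smul_top _ ha, rfl⟩

theorem mem_span_range_iff {ι : Type u} [Fintype ι] (f : ι → P) (x : P) :
    x ∈ Ideal.span (Set.range f) ↔ ∃ a : ι → P, ∑ i, a i * f i = x :=
  Submodule.mem_span_range_iff_exists_fun P

/-- The perturbation lemma. -/
theorem exists_perturb_bound [IsNoetherianRing P] {ι κ : Type u} [Fintype ι] [Fintype κ]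
    (f : ι → P) (σ : κ → ι → P)
    (hker : ∀ a : ι → P, ∑ i, a i * f i = 0 → ∃ b : κ → P, ∀ i, a i = ∑ l, b l * σ l i) :
    ∃ c : ℕ, ∀ (f' : ι → P) (σ' : κ → ι → P), (∀ i, f' i - f i ∈ M ^ (c + 1)) →
      (∀ l i, σ' l i - σ l i ∈ M ^ (c + 1)) → (∀ l, ∑ i, σ' l i * f' i = 0) →
      ∀ (n : ℕ), ∀ x ∈ M ^ n,
        (x ∈ Ideal.span (Set.range f) ⊔ M ^ (n + 1) ↔ x ∈ Ideal.span (Set.range f') ⊔ M ^ (n + 1)) := by
  classical
  obtain ⟨c₁, h₁⟩ := exists_ar M (Fintype.linearCombination P f)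
  obtain ⟨c₂, h₂⟩ := exists_ar M (Fintype.linearCombination P σ)
  let c := max c₁ c₂
  have har1 : ∀ n, c ≤ n → ∀ a : ι → P, ∑ i, a i * f i ∈ M ^ n →
      ∃ a' : ι → P, (∀ i, a' i ∈ M ^ (n - c)) ∧ ∑ i, a' i * f i = ∑ i, a i * f i := by
    intro n hn a ha
    obtain ⟨a', ha', he⟩ := h₁ n ((le_max_left _ _).trans hn) _ ⟨a, rfl⟩ (by
      simpa [Fintype.linearCombination_apply, smul_eq_mul] using ha)
    exact ⟨a', fun i => Ideal.pow_le_pow_right (by omega) (ha' i),
      by simpa [Fintype.linearCombination_apply, smul_eq_mul] using he⟩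
  have har2 : ∀ h, ∀ a : ι → P, ∑ i, a i * f i = 0 → (∀ i, a i ∈ M ^ h) →
      ∃ b : κ → P, (∀ l, b l ∈ M ^ (h - c)) ∧ ∀ i, a i = ∑ l, b l * σ l i := by
    intro h a ha hah
    obtain ⟨b, hb⟩ := hker a ha
    rcases le_total c h with hch | hch
    · obtain ⟨b', hb', he⟩ := h₂ h ((le_max_right _ _).trans hch) a ⟨b, funext fun i => by
          simp [Fintype.linearCombination_apply, hb i]⟩ (mem_smul_top_of_apply_mem _ hah)
      exact ⟨b', fun l => Ideal.pow_le_pow_right (by omega) (hb' l), fun i => by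
        rw [← he]; simp [Fintype.linearCombination_apply]⟩
    · exact ⟨b, fun l => by simp [Nat.sub_eq_zero_of_le hch], hb⟩
  refine ⟨c, fun f' σ' hf hσ hrel n x hx => ?_⟩
  -- the error terms
  have herr : ∀ (h : ℕ) (a : ι → P), (∀ i, a i ∈ M ^ h) →
      ∑ i, a i * f' i - ∑ i, a i * f i ∈ M ^ (h + (c + 1)) := fun h a ha => by
    rw [← Finset.sum_sub_distrib, pow_add]
    exact Ideal.sum_mem _ fun i _ => by rw [← mul_sub]; exact Ideal.mul_mem_mul (ha i) (hf i)
  constructor
  · intro hxI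
    obtain ⟨g, hg, m, hm, rfl⟩ := Submodule.mem_sup.1 hxI
    obtain ⟨a, rfl⟩ := (mem_span_range_iff f g).1 hg
    have hgn : ∑ i, a i * f i ∈ M ^ n := by
      simpa using sub_mem hx (Ideal.pow_le_pow_right n.le_succ hm)
    obtain ⟨a', ha', he⟩ : ∃ a' : ι → P, (∀ i, a' i ∈ M ^ (n - c)) ∧ ∑ i, a' i * f i = ∑ i, a i * f i := by
      rcases le_total c n with hcn | hcn
      · exact har1 n hcn a hgn
      · exact ⟨a, fun i => by simp [Nat.sub_eq_zero_of_le hcn], rfl⟩
    rw [← he]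
    have h1 := Ideal.pow_le_pow_right (show n + 1 ≤ n - c + (c + 1) by omega) (herr _ a' ha')
    rw [show ∑ i, a' i * f i + m = ∑ i, a' i * f' i + (m - (∑ i, a' i * f' i - ∑ i, a' i * f i)) by ring]
    exact Submodule.add_mem_sup ((mem_span_range_iff f' _).2 ⟨a', rfl⟩) (sub_mem hm h1)
  · intro hxI
    obtain ⟨g, hg, m, hm, rfl⟩ := Submodule.mem_sup.1 hxI
    obtain ⟨a, rfl⟩ := (mem_span_range_iff f' g).1 hg
    have hgn : ∑ i, a i * f' i ∈ M ^ n := by
      simpa using sub_mem hx (Ideal.pow_le_pow_right n.le_succ hm)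
    have key : ∀ h, h ≤ n - c → ∃ a' : ι → P, (∀ i, a' i ∈ M ^ h) ∧ ∑ i, a' i * f' i = ∑ i, a i * f' i := by
      intro h
      induction h with
      | zero => exact fun _ => ⟨a, fun i => by simp, rfl⟩
      | succ h ih =>
        intro hh
        obtain ⟨a', ha', he⟩ := ih (by omega)
        have hd : ∑ i, a' i * f i ∈ M ^ (h + (c + 1)) := by
          rw [show ∑ i, a' i * f i = ∑ i, a' i * f' i - (∑ i, a' i * f' i - ∑ i, a' i * f i) by ring, he]
          exact sub_mem (Ideal.pow_le_pow_right (by omega) hgn) (he ▸ herr h a' ha')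
        obtain ⟨a₀, ha₀, he₀⟩ := har1 (h + (c + 1)) (by omega) a' hd
        obtain ⟨b, hb, hab⟩ := har2 h (fun i => a' i - a₀ i)
          (by simp [sub_mul, Finset.sum_sub_distrib, he₀])
          (fun i => sub_mem (ha' i) (Ideal.pow_le_pow_right (by omega) (ha₀ i)))
        refine ⟨fun i => a' i - ∑ l, b l * σ' l i, fun i => ?_, ?_⟩
        · have h1 : a' i - ∑ l, b l * σ' l i = a₀ i - ∑ l, b l * (σ' l i - σ l i) := by
            simp only [mul_sub, Finset.sum_sub_distrib, ← hab i]; ring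
          show a' i - ∑ l, b l * σ' l i ∈ _
          rw [h1]
          refine sub_mem (Ideal.pow_le_pow_right (by omega) (ha₀ i)) (Ideal.sum_mem _ fun l _ => ?_)
          refine Ideal.pow_le_pow_right (show h + 1 ≤ h - c + (c + 1) by omega) ?_
          rw [pow_add]
          exact Ideal.mul_mem_mul (hb l) (hσ l i)
        · rw [← he]
          simp only [sub_mul, Finset.sum_sub_distrib, Finset.sum_mul, mul_assoc]
          rw [Finset.sum_comm (s := (Finset.univ : Finset ι)) (t := (Finset.univ : Finset κ))]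
          simp [← Finset.mul_sum, hrel]
    obtain ⟨a', ha', he⟩ := key (n - c) le_rfl
    rw [← he]
    have h1 := Ideal.pow_le_pow_right (show n + 1 ≤ n - c + (c + 1) by omega) (herr _ a' ha')
    rw [show ∑ i, a' i * f' i + m = ∑ i, a' i * f i + (m + (∑ i, a' i * f' i - ∑ i, a' i * f i)) by ring]
    exact Submodule.add_mem_sup ((mem_span_range_iff f _).2 ⟨a', rfl⟩) (add_mem hm h1)

end Groth.Agent.AlgzGrLib
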