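import Groth.Agent.ArtinApproxLib.Nbhd
import Groth.Agent.CMCat.ComplQuot
import Groth.Agent.S9183
import Groth.Agent.S0598
import Mathlib.Algebra.Category.CommAlgCat.Basic

/-!
Bases for algebraizing elements over complete local rings: finite type models, polynomial coordinates, étale
neighbourhoods of the origin.
-/

set_option autoImplicit false
set_option linter.style.haveILetI false

universe u

open CategoryTheory CategoryTheory.Limits IsLocalRing

namespace Groth.Agent.AlgzGrLib

theorem exists_ft_element (k : Type u) [Field k] (F : CommAlgCat.{u} k ⥤ Type u)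
    (hF : ∀ (J : Type u) [SmallCategory J] [IsFiltered J], PreservesColimitsOfShape J F)
    (R : Type u) [CommRing R] [Algebra k R] (ξ : F.obj (CommAlgCat.of k R)) :
    ∃ (B : CommAlgCat.{u} k), Algebra.FinitePresentation k B ∧
      ∃ (h : ↑B →ₐ[k] R) (ξ₀ : F.obj B), F.map (CommAlgCat.ofHom h) ξ₀ = ξ := by
  obtain ⟨J, _, _, D, c, hc, hfp, ⟨e⟩⟩ := S9183.result k R
  let G : Under (CommRingCat.of k) ⥤ CommAlgCat.{u} k := (commAlgCatEquivUnder (CommRingCat.of k)).inverse
  haveI := hF J
  haveI : PreservesColimitsOfShape J G :=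
    inferInstanceAs (PreservesColimitsOfShape J (commAlgCatEquivUnder (CommRingCat.of k)).inverse)
  let e' : G.obj c.pt ≅ CommAlgCat.of k R :=
    G.mapIso e ≪≫ ((commAlgCatEquivUnder (CommRingCat.of k)).unitIso.app (CommAlgCat.of k R)).symm
  obtain ⟨i, y, hy⟩ := Types.jointly_surjective_of_isColimit
    (isColimitOfPreserves (G ⋙ F) hc) (F.map e'.inv ξ)
  refine ⟨G.obj (D.obj i), hfp i, (G.map (c.ι.app i) ≫ e'.hom).hom, y, ?_⟩
  show F.map (G.map (c.ι.app i) ≫ e'.hom) y = ξ
  have hy' : F.map (G.map (c.ι.app i)) y = F.map e'.inv ξ := hy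
  rw [Functor.map_comp, ConcreteCategory.comp_apply, hy', ← ConcreteCategory.comp_apply, ← Functor.map_comp,
    e'.inv_hom_id]
  simp

theorem isGRing_field (k : Type u) [Field k] : CAlg.IsGRing k := by
  haveI : IsAdicComplete (IsLocalRing.maximalIdeal k) k := by
    rw [IsLocalRing.maximalIdeal_eq_bot]; infer_instance
  exact S0598.result k

section Point

variable {C : Type u} [CommRing C] (P : Ideal C) [P.IsMaximal] {A : Type u} [CommRing A] [IsLocalRing A]
  [Algebra C A] [IsLocalization.AtPrime A P]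

theorem exists_mul_sub_one_mem {s : C} (hs : s ∉ P) (n : ℕ) : ∃ t, t * s - 1 ∈ P ^ n := by
  have h : Ideal.span {s} ⊔ P = ⊤ := by
    refine (Ideal.IsMaximal.out (I := P)).2 _ (lt_of_le_of_ne le_sup_right fun h => hs ?_)
    rw [h]; exact Ideal.mem_sup_left (Ideal.subset_span rfl)
  obtain ⟨a, ha, q, hq, haq⟩ := Submodule.mem_sup.1 ((Ideal.eq_top_iff_one _).1 (Ideal.sup_pow_eq_top (n := n) h))
  obtain ⟨t, rfl⟩ := Ideal.mem_span_singleton'.1 ha
  exact ⟨t, by rw [← haq, sub_add_cancel_left]; exact neg_mem hq⟩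

theorem algebraMap_mem_pow_iff (c : C) (n : ℕ) :
    algebraMap C A c ∈ maximalIdeal A ^ n ↔ c ∈ P ^ n := by
  rw [← IsLocalization.AtPrime.map_eq_maximalIdeal P A, ← Ideal.map_pow]
  refine ⟨fun h => ?_, Ideal.mem_map_of_mem _⟩
  rw [IsLocalization.algebraMap_mem_map_algebraMap_iff P.primeCompl] at h
  obtain ⟨s, hs, hsc⟩ := h
  obtain ⟨t, ht⟩ := exists_mul_sub_one_mem P hs n
  rw [show c = t * (s * c) - (t * s - 1) * c by ring]
  exact sub_mem (Ideal.mul_mem_left _ _ hsc) (Ideal.mul_mem_right _ _ ht)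

include P in
theorem exists_sub_mem_pow (a : A) (n : ℕ) : ∃ c : C, a - algebraMap C A c ∈ maximalIdeal A ^ n := by
  obtain ⟨r, s, rfl⟩ := IsLocalization.exists_mk'_eq P.primeCompl a
  obtain ⟨t, ht⟩ := exists_mul_sub_one_mem P s.2 n
  refine ⟨r * t, (Ideal.mul_unit_mem_iff_mem _ (IsLocalization.map_units A s)).1 ?_⟩
  rw [sub_mul, IsLocalization.mk'_spec, ← map_mul, ← map_sub, algebraMap_mem_pow_iff P,
    show r - r * t * (s : C) = -(r * (t * s - 1)) by ring]
  exact neg_mem (Ideal.mul_mem_left _ _ ht)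

variable [IsNoetherianRing A]

local notation "Â" => AdicCompletion (maximalIdeal A) A
local notation "MM" => Ideal.map (algebraMap A (AdicCompletion (maximalIdeal A) A)) (maximalIdeal A)

theorem algebraMap_mem_complPow_iff (c : C) (n : ℕ) : algebraMap C Â c ∈ MM ^ n ↔ c ∈ P ^ n := by
  rw [← Ideal.map_pow, ← CMCat.evalₐ_eq_zero_iff (maximalIdeal A).fg_of_isNoetherianRing,
    IsScalarTower.algebraMap_apply C A Â, AlgHom.commutes, Ideal.Quotient.algebraMap_eq,
    Ideal.Quotient.eq_zero_iff_mem, algebraMap_mem_pow_iff P]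

include P in
theorem exists_sub_mem_complPow (y : Â) (n : ℕ) : ∃ c : C, y - algebraMap C Â c ∈ MM ^ n := by
  obtain ⟨a, ha⟩ := Ideal.Quotient.mk_surjective (AdicCompletion.evalₐ (maximalIdeal A) n y)
  obtain ⟨c, hc⟩ := exists_sub_mem_pow P a n
  refine ⟨c, ?_⟩
  rw [← Ideal.map_pow, ← CMCat.evalₐ_eq_zero_iff (maximalIdeal A).fg_of_isNoetherianRing, map_sub,
    IsScalarTower.algebraMap_apply C A Â, AlgHom.commutes, Ideal.Quotient.algebraMap_eq, ← ha, ← map_sub,
    Ideal.Quotient.eq_zero_iff_mem]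
  exact hc

variable {C' : Type u} [CommRing C'] [Algebra C C'] [Algebra.Etale C C'] (p' : Ideal C') [p'.IsPrime]

include A in
theorem le_map_sup_sq (hcomap : p'.comap (algebraMap C C') = P) (hmaxi : p'.IsMaximal) :
    p' ≤ P.map (algebraMap C C') ⊔ p' ^ 2 := by
  let L := Localization.AtPrime p'
  have hL : Ideal.comap (algebraMap C' L) (maximalIdeal L) = p' := IsLocalization.AtPrime.under_maximalIdeal L p'
  letI : Algebra A L := (IsLocalization.lift (M := P.primeCompl) (g := algebraMap C L) fun y =>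
    IsLocalization.map_units L (⟨algebraMap C C' y.1, fun h => y.2 (hcomap.le (Ideal.mem_comap.2 h))⟩ : p'.primeCompl)).toAlgebra
  haveI : IsScalarTower C A L := IsScalarTower.of_algebraMap_eq fun c => (IsLocalization.lift_eq _ c).symm
  haveI : IsLocalHom (algebraMap A L) := by
    refine ((local_hom_TFAE (algebraMap A L)).out 0 4 rfl rfl).mpr ?_
    refine ((IsLocalRing.maximalIdeal.isMaximal A).eq_of_le (Ideal.comap_ne_top _ (Ideal.IsPrime.ne_top inferInstance)) ?_).symm
    rw [← IsLocalization.AtPrime.map_eq_maximalIdeal P A, Ideal.map_le_iff_le_comap, Ideal.comap_comap,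
      ← IsScalarTower.algebraMap_eq, IsScalarTower.algebraMap_eq C C' L, ← Ideal.comap_comap,
      hL, hcomap]
  haveI : Algebra.FormallyUnramified C L :=
    haveI : Algebra.FormallyUnramified C' L := Algebra.FormallyUnramified.of_isLocalization p'.primeCompl
    Algebra.FormallyUnramified.comp C C' L
  haveI : Algebra.FormallyUnramified A L := Algebra.FormallyUnramified.of_restrictScalars C A L
  haveI : Algebra.EssFiniteType C L :=
    haveI : Algebra.EssFiniteType C' L := Algebra.EssFiniteType.of_isLocalization L p'.primeCompl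
    Algebra.EssFiniteType.comp C C' L
  haveI : Algebra.EssFiniteType A L := Algebra.EssFiniteType.of_comp C A L
  have hmax : (maximalIdeal A).map (algebraMap A L) = maximalIdeal L := Algebra.FormallyUnramified.map_maximalIdeal
  intro x hx
  have h1 : algebraMap C' L x ∈ (P.map (algebraMap C C')).map (algebraMap C' L) := by
    rw [Ideal.map_map, ← IsScalarTower.algebraMap_eq C C' L, IsScalarTower.algebraMap_eq C A L, ← Ideal.map_map,
      IsLocalization.AtPrime.map_eq_maximalIdeal P A, hmax, ← Ideal.mem_comap, hL]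
    exact hx
  rw [IsLocalization.algebraMap_mem_map_algebraMap_iff p'.primeCompl] at h1
  obtain ⟨s, hs, hsx⟩ := h1
  haveI := hmaxi
  obtain ⟨t, ht⟩ := exists_mul_sub_one_mem p' hs 1
  rw [show x = t * (s * x) - (t * s - 1) * x by ring]
  refine sub_mem (Ideal.mem_sup_left (Ideal.mul_mem_left _ _ hsx)) (Ideal.mem_sup_right ?_)
  rw [pow_two]
  exact Ideal.mul_mem_mul (by simpa using ht) hx


include P in
/-- An étale neighbourhood inside the completion has the same truncations. -/
theorem nbhd_truncations (ψ : C' →ₐ[C] Â) (hcomap : p'.comap (algebraMap C C') = P)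
    (hψp : ∀ x ∈ p', ψ x ∈ MM) (hres : ∀ x : C', ∃ r s : C, s ∉ P ∧ algebraMap C C' s * x - algebraMap C C' r ∈ p') :
    p'.IsMaximal ∧ ∀ (n : ℕ) (x : C'), ψ x ∈ MM ^ n ↔ x ∈ p' ^ n := by
  have hM : p' = Ideal.comap ψ.toRingHom MM := by
    refine le_antisymm hψp fun x hx => ?_
    have hx : ψ x ∈ MM := hx
    obtain ⟨r, s, hs, hrs⟩ := hres x
    have h1 : algebraMap C Â r ∈ MM := by
      have h2 := hψp _ hrs
      rw [map_sub, map_mul, AlgHom.commutes, AlgHom.commutes] at h2
      simpa using sub_mem (Ideal.mul_mem_left MM (algebraMap C Â s) hx) h2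
    rw [← pow_one MM, algebraMap_mem_complPow_iff P, pow_one] at h1
    have h2 : algebraMap C C' s * x ∈ p' := by
      simpa using add_mem hrs (Ideal.mem_comap.1 (hcomap.ge h1))
    exact (Ideal.IsPrime.mem_or_mem inferInstance h2).resolve_left fun h => hs (hcomap.le (Ideal.mem_comap.2 h))
  have hmaxi : p'.IsMaximal := by
    haveI : Ideal.IsMaximal MM := ArtinApproxLib.map_maximalIdeal_isMaximal
    letI := Ideal.Quotient.field MM
    have hsurj : Function.Surjective ((Ideal.Quotient.mk MM).comp ψ.toRingHom) := fun y => by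
      obtain ⟨y, rfl⟩ := Ideal.Quotient.mk_surjective y
      obtain ⟨c, hc⟩ := exists_sub_mem_complPow P y 1
      rw [pow_one] at hc
      refine ⟨algebraMap C C' c, (Ideal.Quotient.eq.2 ?_).symm⟩
      show y - ψ (algebraMap C C' c) ∈ MM
      rwa [AlgHom.commutes]
    have h : p' = RingHom.ker ((Ideal.Quotient.mk MM).comp ψ.toRingHom) := by
      rw [← RingHom.comap_ker, Ideal.mk_ker]; exact hM
    rw [h]
    exact RingHom.ker_isMaximal_of_surjective _ hsurj
  have hP : P.map (algebraMap C C') ≤ p' := Ideal.map_le_iff_le_comap.2 hcomap.ge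
  have hpow : ∀ n, p' ^ n ≤ (P ^ n).map (algebraMap C C') ⊔ p' ^ (n + 1) := by
    intro n
    induction n with
    | zero => simp [Ideal.map_top]
    | succ n ih =>
      calc p' ^ (n + 1) = p' ^ n * p' := pow_succ p' n
        _ ≤ ((P ^ n).map (algebraMap C C') ⊔ p' ^ (n + 1)) * (P.map (algebraMap C C') ⊔ p' ^ 2) :=
            Ideal.mul_mono ih (le_map_sup_sq (A := A) P p' hcomap hmaxi)
        _ ≤ (P ^ (n + 1)).map (algebraMap C C') ⊔ p' ^ (n + 1 + 1) := by
          rw [Ideal.sup_mul, Ideal.mul_sup, Ideal.mul_sup, pow_succ P, Ideal.map_mul]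
          refine sup_le (sup_le le_sup_left ?_) (sup_le ?_ ?_) <;> refine le_trans ?_ le_sup_right
          · rw [show n + 1 + 1 = n + 2 from rfl, pow_add]
            exact Ideal.mul_mono (by rw [Ideal.map_pow]; exact Ideal.pow_right_mono hP n) le_rfl
          · rw [pow_succ p' (n + 1)]
            exact Ideal.mul_mono le_rfl hP
          · rw [← pow_add]
            exact Ideal.pow_le_pow_right (by omega)
  have happ : ∀ (n : ℕ) (x : C'), ∃ c : C, x - algebraMap C C' c ∈ p' ^ n := by
    intro n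
    induction n with
    | zero => exact fun x => ⟨0, by simp⟩
    | succ n ih =>
      intro x
      obtain ⟨c, hc⟩ := ih x
      suffices ∀ w ∈ (P ^ n).map (algebraMap C C'), ∃ d : C, w - algebraMap C C' d ∈ p' ^ (n + 1) by
        obtain ⟨w, hw, v, hv, hwv⟩ := Submodule.mem_sup.1 (hpow n hc)
        obtain ⟨d, hd⟩ := this w hw
        refine ⟨c + d, ?_⟩
        rw [map_add, ← sub_sub, ← hwv, add_sub_right_comm]
        exact add_mem hd hv
      intro w hw
      induction hw using Submodule.span_induction with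
      | mem w hw => obtain ⟨m, -, rfl⟩ := hw; exact ⟨m, by simp⟩
      | zero => exact ⟨0, by simp⟩
      | add v w _ _ hv hw =>
        obtain ⟨x, hx⟩ := hv
        obtain ⟨y, hy⟩ := hw
        exact ⟨x + y, by rw [map_add, add_sub_add_comm]; exact add_mem hx hy⟩
      | smul z w hwmem hw =>
        obtain ⟨y, hy⟩ := hw
        have hzc : ∃ c : C, z - algebraMap C C' c ∈ p' := by
          obtain ⟨c, hc⟩ := exists_sub_mem_complPow P (ψ z) 1
          refine ⟨c, hM ▸ ?_⟩
          show ψ (z - algebraMap C C' c) ∈ MM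
          rw [map_sub, AlgHom.commutes]
          simpa using hc
        obtain ⟨x, hx⟩ := hzc
        refine ⟨x * y, ?_⟩
        have hwn : w ∈ p' ^ n := by
          have : (P ^ n).map (algebraMap C C') ≤ p' ^ n := by rw [Ideal.map_pow]; exact Ideal.pow_right_mono hP n
          exact this hwmem
        have : z • w - algebraMap C C' (x * y) =
            (z - algebraMap C C' x) * w + algebraMap C C' x * (w - algebraMap C C' y) := by
          rw [smul_eq_mul, map_mul]; ring
        rw [this]
        refine add_mem ?_ (Ideal.mul_mem_left _ _ hy)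
        rw [pow_succ']
        exact Ideal.mul_mem_mul hx hwn
  refine ⟨hmaxi, fun n x => ?_⟩
  have hψn : ∀ z ∈ p' ^ n, ψ z ∈ MM ^ n := by
    intro z hz
    refine Ideal.pow_right_mono (Ideal.map_le_iff_le_comap.2 hM.le) n ?_
    rw [← Ideal.map_pow]
    exact Ideal.mem_map_of_mem ψ.toRingHom hz
  refine ⟨fun hx => ?_, hψn x⟩
  obtain ⟨c, hc⟩ := happ n x
  have h1 := sub_mem hx (hψn _ hc)
  rw [map_sub, AlgHom.commutes, sub_sub_cancel, algebraMap_mem_complPow_iff P] at h1
  have h2 : algebraMap C C' c ∈ p' ^ n := by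
    refine Ideal.pow_right_mono hP n ?_
    rw [← Ideal.map_pow]
    exact Ideal.mem_map_of_mem _ h1
  simpa using add_mem hc h2

end Point

/-- Étale solutions with arbitrary finite index types. -/
theorem exists_solution {C : Type u} [CommRing C] [IsNoetherianRing C]
    (P : Ideal C) [P.IsPrime] {A : Type u} [CommRing A] [IsLocalRing A] [Algebra C A] [IsLocalization.AtPrime A P]
    (hreg : CAlg.IsRegularHom C (AdicCompletion (maximalIdeal A) A))
    {ι κ : Type*} [Fintype ι] [Fintype κ] (F : κ → MvPolynomial ι C)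
    (a : ι → AdicCompletion (maximalIdeal A) A) (ha : ∀ j, MvPolynomial.aeval a (F j) = 0) (N : ℕ) :
    ∃ (C' : Type u) (_ : CommRing C') (_ : Algebra C C'), Algebra.Etale C C' ∧
      ∃ (ψ : C' →ₐ[C] AdicCompletion (maximalIdeal A) A) (p' : Ideal C'), p'.IsPrime ∧
        p'.comap (algebraMap C C') = P ∧
        (∀ x : C', ∃ r s : C, s ∉ P ∧ algebraMap C C' s * x - algebraMap C C' r ∈ p') ∧
        (∀ x ∈ p', ψ x ∈ (maximalIdeal A).map (algebraMap A (AdicCompletion (maximalIdeal A) A))) ∧
        ∃ b : ι → C', (∀ j, MvPolynomial.aeval b (F j) = 0) ∧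
          ∀ i, a i - ψ (b i) ∈ ((maximalIdeal A).map (algebraMap A (AdicCompletion (maximalIdeal A) A))) ^ N := by
  classical
  let e := Fintype.equivFin ι
  let e' := Fintype.equivFin κ
  obtain ⟨C', _, _, hC', ψ, p', h1, h2, h3, h4, b, hb, hab⟩ :=
    ArtinApproxLib.exists_etale_solution_localization P hreg
      (fun j => MvPolynomial.rename e (F (e'.symm j))) (a ∘ e.symm)
      (fun j => by
        rw [MvPolynomial.aeval_rename, Function.comp_assoc, Equiv.symm_comp_self, Function.comp_id]
        exact ha _) N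
  refine ⟨C', inferInstance, inferInstance, hC', ψ, p', h1, h2, h3, h4, b ∘ e, fun j => ?_, fun i => ?_⟩
  · have := hb (e' j)
    rwa [Equiv.symm_apply_apply, MvPolynomial.aeval_rename] at this
  · rw [← Ideal.map_pow]
    simpa using hab (e i)

end Groth.Agent.AlgzGrLib
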