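import Groth.Prelude.Def_AssocGr
import Groth.Prelude.Def_Rees2
import Mathlib.RingTheory.ReesAlgebra
import Mathlib.RingTheory.FiniteType

/-!
Maps of associated graded rings induced by filtered ring maps.
-/

set_option autoImplicit false

universe u

noncomputable section

open Polynomial

namespace Groth.Agent.AlgzGrLib

variable {A B : Type u} [CommRing A] [CommRing B] (f : A →+* B) (I : Ideal A) (J : Ideal B)
  (h : I.map f ≤ J)

local notation "𝓐" => FiltBl.IdealFiltration.adic I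
local notation "𝓑" => FiltBl.IdealFiltration.adic J

include h in
theorem map_mem_pow {n : ℕ} {a : A} (ha : a ∈ I ^ n) : f a ∈ J ^ n := by
  refine Ideal.pow_right_mono h n ?_
  rw [← Ideal.map_pow]
  exact Ideal.mem_map_of_mem f ha

/-- The induced map of Rees algebras. -/
def reesMap : ↥(𝓐).rees →+* ↥(𝓑).rees :=
  ((Polynomial.mapRingHom f).comp (𝓐).rees.val.toRingHom).codRestrict (𝓑).rees fun p n => by
    show ((p : A[X]).map f).coeff n ∈ J ^ n
    rw [Polynomial.coeff_map]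
    exact map_mem_pow f I J h (p.2 n)

theorem coeff_reesMap (p : ↥(𝓐).rees) (n : ℕ) :
    (reesMap f I J h p : B[X]).coeff n = f ((p : A[X]).coeff n) :=
  Polynomial.coeff_map f n

/-- The induced map of associated graded rings. -/
def grMap : AssocGr.GrRing 𝓐 →+* AssocGr.GrRing 𝓑 :=
  Ideal.Quotient.lift (AssocGr.succIdeal 𝓐) ((AssocGr.mkG 𝓑).toRingHom.comp (reesMap f I J h)) fun p hp => by
    refine (AssocGr.mkG_eq_zero_iff 𝓑 _).2 fun n => ?_
    rw [coeff_reesMap]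
    exact map_mem_pow f I J h (hp n)

theorem grMap_mkG (p : ↥(𝓐).rees) :
    grMap f I J h (AssocGr.mkG 𝓐 p) = AssocGr.mkG 𝓑 (reesMap f I J h p) := rfl

theorem grMap_inDeg (n : ℕ) (a : ↥((𝓐).F n)) :
    grMap f I J h (AssocGr.inDeg 𝓐 n a : AssocGr.GrRing 𝓐) =
      (AssocGr.inDeg 𝓑 n ⟨f a, map_mem_pow f I J h a.2⟩ : AssocGr.GrRing 𝓑) := by
  rw [AssocGr.coe_inDeg, grMap_mkG, AssocGr.coe_inDeg]
  congr 1
  refine Subtype.ext (Polynomial.ext fun m => ?_)
  rw [coeff_reesMap]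
  simp only [AssocGr.coe_coe_monom, coeff_monomial, apply_ite f, map_zero]

theorem grMap_algebraMap (a : A) :
    grMap f I J h (algebraMap A _ a) = algebraMap B _ (f a) := by
  rw [AssocGr.algebraMap_eq, grMap_inDeg, AssocGr.algebraMap_eq]

theorem grMap_eq_zero_iff (p : ↥(𝓐).rees) :
    grMap f I J h (AssocGr.mkG 𝓐 p) = 0 ↔ ∀ n, f ((p : A[X]).coeff n) ∈ J ^ (n + 1) := by
  rw [grMap_mkG, AssocGr.mkG_eq_zero_iff, AssocGr.mem_succIdeal_iff]
  simp only [coeff_reesMap]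
  rfl

/-- The criterion for injectivity. -/
theorem grMap_injective (hinj : ∀ (n : ℕ), ∀ a ∈ I ^ n, f a ∈ J ^ (n + 1) → a ∈ I ^ (n + 1)) :
    Function.Injective (grMap f I J h) := by
  rw [injective_iff_map_eq_zero]
  intro x hx
  obtain ⟨p, rfl⟩ := AssocGr.mkG_surjective 𝓐 x
  exact (AssocGr.mkG_eq_zero_iff 𝓐 p).2 fun n => hinj n _ (p.2 n) ((grMap_eq_zero_iff f I J h p).1 hx n)

/-- The criterion for surjectivity. -/
theorem exists_grMap_eq (hsurj : ∀ (n : ℕ), ∀ b ∈ J ^ n, ∃ a ∈ I ^ n, f a - b ∈ J ^ (n + 1)) (n : ℕ)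
    {x : AssocGr.GrRing 𝓑} (hx : x ∈ AssocGr.gr 𝓑 n) :
    ∃ y ∈ AssocGr.gr 𝓐 n, grMap f I J h y = x := by
  obtain ⟨b, hb⟩ := AssocGr.inDeg_surjective 𝓑 n ⟨x, hx⟩
  obtain ⟨a, ha, hab⟩ := hsurj n b b.2
  refine ⟨(AssocGr.inDeg 𝓐 n ⟨a, ha⟩ : AssocGr.GrRing 𝓐), Subtype.prop _, ?_⟩
  rw [grMap_inDeg, show x = (AssocGr.inDeg 𝓑 n b : AssocGr.GrRing 𝓑) by rw [hb], ← sub_eq_zero,
    ← Submodule.coe_sub, ← map_sub, Submodule.coe_eq_zero, AssocGr.inDeg_eq_zero_iff]
  exact hab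

theorem grMap_surjective (hsurj : ∀ (n : ℕ), ∀ b ∈ J ^ n, ∃ a ∈ I ^ n, f a - b ∈ J ^ (n + 1)) :
    Function.Surjective (grMap f I J h) := by
  intro x
  obtain ⟨p, rfl⟩ := AssocGr.mkG_surjective 𝓑 x
  suffices AssocGr.mkG 𝓑 p ∈ (grMap f I J h).range from this
  rw [← AssocGr.sum_term 𝓑 p, map_sum]
  refine Subring.sum_mem _ fun n _ => ?_
  obtain ⟨y, -, hy⟩ := exists_grMap_eq f I J h hsurj n (AssocGr.mkG_mem_gr 𝓑 (AssocGr.term_mem_deg 𝓑 p n))
  exact ⟨y, hy⟩

section Compare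

variable {C : Type u} [CommRing C] (g : A →+* C) (K : Ideal C) (h' : I.map g ≤ K)

include h h' in
/-- Two graded quotients of one graded ring with the same kernels are isomorphic. -/
theorem exists_grEquiv (hf : ∀ (n : ℕ), ∀ b ∈ J ^ n, ∃ a ∈ I ^ n, f a - b ∈ J ^ (n + 1))
    (hg : ∀ (n : ℕ), ∀ b ∈ K ^ n, ∃ a ∈ I ^ n, g a - b ∈ K ^ (n + 1))
    (heq : ∀ (n : ℕ), ∀ a ∈ I ^ n, (f a ∈ J ^ (n + 1) ↔ g a ∈ K ^ (n + 1))) :
    ∃ e : AssocGr.GrRing 𝓑 ≃+* AssocGr.GrRing (FiltBl.IdealFiltration.adic K),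
      (∀ n x, x ∈ AssocGr.gr 𝓑 n → e x ∈ AssocGr.gr (FiltBl.IdealFiltration.adic K) n) ∧
      ∀ a : A, e (algebraMap B _ (f a)) = algebraMap C _ (g a) := by
  have hker : RingHom.ker (grMap f I J h) = RingHom.ker (grMap g I K h') := by
    ext x
    obtain ⟨p, rfl⟩ := AssocGr.mkG_surjective 𝓐 x
    rw [RingHom.mem_ker, RingHom.mem_ker, grMap_eq_zero_iff, grMap_eq_zero_iff]
    exact forall_congr' fun n => heq n _ (p.2 n)
  let e := ((RingHom.quotientKerEquivOfSurjective (grMap_surjective f I J h hf)).symm.trans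
    (Ideal.quotEquivOfEq hker)).trans
    (RingHom.quotientKerEquivOfSurjective (grMap_surjective g I K h' hg))
  have he : ∀ y, e (grMap f I J h y) = grMap g I K h' y := fun y => by
    have h1 : (RingHom.quotientKerEquivOfSurjective (grMap_surjective f I J h hf)).symm (grMap f I J h y) =
        Ideal.Quotient.mk _ y := by
      rw [RingEquiv.symm_apply_eq, RingHom.quotientKerEquivOfSurjective_apply_mk]
    simp only [e, RingEquiv.trans_apply, h1, Ideal.quotEquivOfEq_mk, RingHom.quotientKerEquivOfSurjective_apply_mk]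
  refine ⟨e, fun n x hx => ?_, fun a => ?_⟩
  · obtain ⟨y, hy, rfl⟩ := exists_grMap_eq f I J h hf n hx
    rw [he]
    obtain ⟨a, ha⟩ := AssocGr.inDeg_surjective 𝓐 n ⟨y, hy⟩
    rw [show y = (AssocGr.inDeg 𝓐 n a : AssocGr.GrRing 𝓐) by rw [ha], grMap_inDeg]
    exact Subtype.prop _
  · rw [← grMap_algebraMap f I J h, he, grMap_algebraMap]

end Compare

theorem isNoetherianRing_grRing [IsNoetherianRing A] : IsNoetherianRing (AssocGr.GrRing 𝓐) := by
  haveI : IsNoetherianRing ↥(𝓐).rees := by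
    rw [Rees.adic_rees_eq]; infer_instance
  exact isNoetherianRing_of_surjective _ _ (AssocGr.mkG 𝓐).toRingHom (AssocGr.mkG_surjective 𝓐)

/-- A surjective endomorphism of a Noetherian ring is injective. -/
theorem injective_of_surjective_endo {G : Type u} [CommRing G] [IsNoetherianRing G] (φ : G →+* G)
    (hφ : Function.Surjective φ) : Function.Injective φ := by
  let K : ℕ →o Ideal G := ⟨fun n => RingHom.ker (φ ^ n), monotone_nat_of_le_succ fun n x hx => by
    rw [RingHom.mem_ker] at hx ⊢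
    rw [pow_succ']
    show φ ((φ ^ n) x) = 0
    rw [hx, map_zero]⟩
  obtain ⟨n, hn⟩ := monotone_stabilizes_iff_noetherian.2 inferInstance K
  rw [injective_iff_map_eq_zero]
  intro x hx
  obtain ⟨y, hy⟩ : ∃ y, (φ ^ n) y = x := by
    have : Function.Surjective ⇑(φ ^ n) := by rw [RingHom.coe_pow]; exact hφ.iterate n
    exact this x
  have h1 : y ∈ K (n + 1) := by
    show (φ ^ (n + 1)) y = 0
    rw [pow_succ']
    show φ ((φ ^ n) y) = 0
    rw [hy, hx]
  rw [← hn (n + 1) n.le_succ] at h1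
  rw [← hy]
  exact h1

end Groth.Agent.AlgzGrLib

end
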